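import Groth.Prelude.Def_Frob
import Groth.Prelude.Def_EndRing
import Mathlib.FieldTheory.Finite.Basic
import Mathlib.Algebra.Polynomial.AlgebraMap
import Mathlib.AlgebraicGeometry.Over

/-!
# The `q`-Frobenius of a scheme over a field with `q` elements
-/

set_option autoImplicit false
set_option backward.isDefEq.respectTransparency false
set_option linter.style.haveILetI false

universe u

open CategoryTheory MonoidalCategory CartesianMonoidalCategory MonObj AlgebraicGeometry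

noncomputable section

namespace Groth.Agent.CogenLib

/-- `F` is the identity on points and the `q`-th power on functions. -/
def IsQFrob (q : ℕ) {X : Scheme.{u}} (F : X ⟶ X) : Prop :=
  ∃ (_ : F.base = 𝟙 _) (hle : ∀ U : X.Opens, U ≤ F ⁻¹ᵁ U),
    ∀ (U : X.Opens) (s : Γ(X, U)), (F.appLE U U (hle U)).hom s = s ^ q

/-- Frobenius commutes with every morphism. -/
theorem IsQFrob.comm {q : ℕ} {X Y : Scheme.{u}} {F : X ⟶ X} {G : Y ⟶ Y} (hF : IsQFrob q F) (hG : IsQFrob q G)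
    (f : X ⟶ Y) : F ≫ f = f ≫ G := by
  obtain ⟨hFb, hFle, hFa⟩ := hF
  obtain ⟨hGb, hGle, hGa⟩ := hG
  refine Scheme.Hom.ext (by rw [Scheme.Hom.comp_base, Scheme.Hom.comp_base, hFb, hGb, Category.id_comp,
    Category.comp_id]) fun U => ?_
  have hWU : ∀ W : X.Opens, W ≤ f ⁻¹ᵁ U → W ≤ (F ≫ f) ⁻¹ᵁ U := fun W hW z hz => by
    show f (F z) ∈ U
    rw [show F z = z from congrArg (fun φ => φ z) hFb]
    exact hW hz
  have e1 : (F ≫ f) ⁻¹ᵁ U = f ⁻¹ᵁ U := TopologicalSpace.Opens.ext (Set.ext fun z => by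
    show f (F z) ∈ U ↔ f z ∈ U
    rw [show F z = z from congrArg (fun φ => φ z) hFb])
  have e2 : (f ≫ G) ⁻¹ᵁ U = f ⁻¹ᵁ U := TopologicalSpace.Opens.ext (Set.ext fun z => by
    show G (f z) ∈ U ↔ f z ∈ U
    rw [show G (f z) = f z from congrArg (fun φ => φ (f z)) hGb])
  have h : (F ≫ f).appLE U (f ⁻¹ᵁ U) e1.ge = (f ≫ G).appLE U (f ⁻¹ᵁ U) e2.ge := by
    rw [← Scheme.Hom.appLE_comp_appLE F f U (f ⁻¹ᵁ U) (f ⁻¹ᵁ U) le_rfl (hFle _),
      ← Scheme.Hom.appLE_comp_appLE f G U U (f ⁻¹ᵁ U) (hGle U) le_rfl]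
    ext s
    simp only [CommRingCat.hom_comp, RingHom.coe_comp, Function.comp_apply]
    rw [hFa, hGa, map_pow]
  rw [Scheme.Hom.appLE, Scheme.Hom.appLE] at h
  have h' := congrArg (· ≫ X.presheaf.map (homOfLE e1.le).op) h
  simp only [Category.assoc, ← Functor.map_comp] at h'
  rw [show (homOfLE e1.ge).op ≫ (homOfLE e1.le).op = 𝟙 _ from Subsingleton.elim _ _, CategoryTheory.Functor.map_id,
    Category.comp_id] at h'
  rw [h']
  rw [Category.assoc, ← X.presheaf.map_comp, Subsingleton.elim (_ ≫ _) (𝟙 _), X.presheaf.map_id]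
  exact Category.comp_id _

theorem IsQFrob.unique {q : ℕ} {X : Scheme.{u}} {F G : X ⟶ X} (hF : IsQFrob q F) (hG : IsQFrob q G) : F = G := by
  have h := hF.comm hG (𝟙 X)
  rwa [Category.comp_id, Category.id_comp] at h

theorem IsQFrob.comp {a b : ℕ} {X : Scheme.{u}} {F G : X ⟶ X} (hF : IsQFrob a F) (hG : IsQFrob b G) :
    IsQFrob (b * a) (F ≫ G) := by
  obtain ⟨hFb, hFle, hFa⟩ := hF
  obtain ⟨hGb, hGle, hGa⟩ := hG
  have hle : ∀ U : X.Opens, U ≤ (F ≫ G) ⁻¹ᵁ U := fun U z hz => hFle (G ⁻¹ᵁ U) (hGle U hz)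
  refine ⟨by rw [Scheme.Hom.comp_base, hFb, hGb, Category.id_comp], hle, fun U s => ?_⟩
  rw [← Scheme.Hom.appLE_comp_appLE F G U U U (hGle U) (hFle U)]
  simp only [CommRingCat.hom_comp, RingHom.coe_comp, Function.comp_apply]
  rw [hGa, hFa, pow_mul]

theorem isQFrob_frob (X : Scheme.{u}) (p : ℕ) [Fact p.Prime] [FrobSch.IsCharP X p] :
    IsQFrob p (FrobSch.frob X p) := by
  refine ⟨rfl, fun U => le_rfl, fun U s => ?_⟩
  show (X.presheaf.map (𝟙 _)).hom ((FrobSch.frob X p).app U s) = s ^ p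
  rw [CategoryTheory.Functor.map_id]
  rfl

theorem isQFrob_id {X : Scheme.{u}} : IsQFrob 1 (𝟙 X) := by
  refine ⟨rfl, fun U => le_rfl, fun U s => ?_⟩
  rw [pow_one]
  simp [Scheme.Hom.appLE]
  exact ConcreteCategory.congr_hom (X.presheaf.map_id (Opposite.op U)) s

theorem exists_qFrob (X : Scheme.{u}) (p : ℕ) [Fact p.Prime] [FrobSch.IsCharP X p] :
    ∀ e : ℕ, ∃ F : X ⟶ X, IsQFrob (p ^ e) F
  | 0 => ⟨𝟙 X, by rw [pow_zero]; exact isQFrob_id⟩
  | e + 1 => by
    obtain ⟨F, hF⟩ := exists_qFrob X p e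
    exact ⟨F ≫ FrobSch.frob X p, by rw [pow_succ, mul_comm]; exact hF.comp (isQFrob_frob X p)⟩

variable {k : Type u} [Field k] [Finite k]

theorem isQFrob_spec_id : IsQFrob (Nat.card k) (𝟙 (Spec (CommRingCat.of k))) := by
  haveI : Subsingleton ↥(Spec (CommRingCat.of k)) := inferInstanceAs (Subsingleton (PrimeSpectrum k))
  haveI := Fintype.ofFinite k
  refine ⟨rfl, fun U => le_rfl, fun U s => ?_⟩
  have e : ((𝟙 (Spec (CommRingCat.of k)) : _ ⟶ _).appLE U U le_rfl).hom s = s := by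
    simp [Scheme.Hom.appLE]
    exact ConcreteCategory.congr_hom ((Spec (CommRingCat.of k)).presheaf.map_id (Opposite.op U)) s
  refine e.trans ?_
  rcases em (∃ z, z ∈ U) with ⟨z, hz⟩ | h
  · obtain rfl : U = ⊤ := eq_top_iff.2 fun y _ => Subsingleton.elim z y ▸ hz
    obtain ⟨t, rfl⟩ : ∃ t : k, (Scheme.ΓSpecIso (CommRingCat.of k)).inv t = s :=
      (ConcreteCategory.bijective_of_isIso (Scheme.ΓSpecIso (CommRingCat.of k)).inv).2 s
    rw [← map_pow, Nat.card_eq_fintype_card, FiniteField.pow_card]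
  · obtain rfl : U = ⊥ := eq_bot_iff.2 fun y hy => (h ⟨y, hy⟩).elim
    exact Subsingleton.elim _ _

/-- Frobenius lives over the field. -/
theorem exists_frobOver (X : Over (Spec (CommRingCat.of k))) :
    ∃ π : X ⟶ X, IsQFrob (Nat.card k) π.left := by
  haveI := Fintype.ofFinite k
  obtain ⟨p, hp⟩ := CharP.exists k
  haveI : Fact p.Prime := ⟨CharP.char_is_prime k p⟩
  obtain ⟨n, -, hn⟩ := FiniteField.card k p
  haveI := FrobSch.IsCharP.of_hom X.hom p
  obtain ⟨F, hF⟩ := exists_qFrob X.left p n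
  rw [← hn, ← Nat.card_eq_fintype_card] at hF
  exact ⟨Over.homMk F ((hF.comm isQFrob_spec_id X.hom).trans (Category.comp_id _)), hF⟩

theorem comm_over {X Y : Over (Spec (CommRingCat.of k))} {πX : X ⟶ X} {πY : Y ⟶ Y}
    (hX : IsQFrob (Nat.card k) πX.left) (hY : IsQFrob (Nat.card k) πY.left) (f : X ⟶ Y) : πX ≫ f = f ≫ πY :=
  Over.OverMorphism.ext (hX.comm hY f.left)

/-- Frobenius is a homomorphism. -/
theorem isMonHom_frob {X : Over (Spec (CommRingCat.of k))} [MonObj X] {π : X ⟶ X}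
    (hπ : IsQFrob (Nat.card k) π.left) : IsMonHom π := by
  obtain ⟨π₁, h₁⟩ := exists_frobOver (𝟙_ (Over (Spec (CommRingCat.of k))))
  obtain ⟨π₂, h₂⟩ := exists_frobOver (X ⊗ X)
  have e : π₂ = π ⊗ₘ π := hom_ext _ _ (by rw [tensorHom_fst, comm_over h₂ hπ]) (by rw [tensorHom_snd, comm_over h₂ hπ])
  refine ⟨?_, ?_⟩
  · rw [← comm_over h₁ hπ, toUnit_unique π₁ (𝟙 _), Category.id_comp]
  · rw [← comm_over h₂ hπ, e]

/-- Evaluating a polynomial at intertwined endomorphisms. -/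
theorem eval₂_comm {C : Type*} [Category C] [Preadditive C] {X Y : C} (a : CategoryTheory.End X)
    (b : CategoryTheory.End Y) (φ : X ⟶ Y) (h : (a : X ⟶ X) ≫ φ = φ ≫ (b : Y ⟶ Y)) (P : Polynomial ℤ) :
    ((Polynomial.eval₂ (Int.castRingHom (CategoryTheory.End X)) a P : CategoryTheory.End X) : X ⟶ X) ≫ φ =
      φ ≫ ((Polynomial.eval₂ (Int.castRingHom (CategoryTheory.End Y)) b P : CategoryTheory.End Y) : Y ⟶ Y) := by
  induction P using Polynomial.induction_on' with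
  | add p q hp hq =>
    rw [Polynomial.eval₂_add, Polynomial.eval₂_add]
    exact (Preadditive.add_comp _ _ _ _ _ _).trans (Eq.trans (congrArg₂ (· + ·) hp hq) (Preadditive.comp_add _ _ _ _ _ _).symm)
  | monomial n c =>
    rw [Polynomial.eval₂_monomial, Polynomial.eval₂_monomial]
    have hpow : ∀ n : ℕ, ((a ^ n : CategoryTheory.End X) : X ⟶ X) ≫ φ = φ ≫ ((b ^ n : CategoryTheory.End Y) : Y ⟶ Y) := by
      intro n
      induction n with
      | zero => rw [pow_zero, pow_zero]; exact (Category.id_comp φ).trans (Category.comp_id φ).symm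
      | succ n ih =>
        rw [pow_succ, pow_succ]
        show (a ≫ (a ^ n : CategoryTheory.End X)) ≫ φ = φ ≫ (b ≫ (b ^ n : CategoryTheory.End Y))
        rw [Category.assoc, ih, ← Category.assoc, h, Category.assoc]
    rw [eq_intCast, eq_intCast, ← zsmul_eq_mul, ← zsmul_eq_mul]
    exact (Preadditive.zsmul_comp _ _ _).trans (Eq.trans (congrArg (c • ·) (hpow n)) (Preadditive.comp_zsmul _ _ _).symm)

end Groth.Agent.CogenLib
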