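import Groth.Agent.PoincareLib.Reduce
import Groth.Agent.CogenLib.Frob
import Groth.Prelude.Def_EndRing

/-!
# Quotients, images and monomorphisms of abelian varieties over a field
-/

set_option autoImplicit false
set_option backward.isDefEq.respectTransparency false
set_option linter.style.haveILetI false
set_option linter.unusedSectionVars false

universe u

open CategoryTheory CategoryTheory.Limits MonoidalCategory CartesianMonoidalCategory MonObj AlgebraicGeometry

noncomputable section

namespace Groth.Agent.CogenLib

variable {k : Type u} [Field k]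

theorem isIntegral_left (A : Over (Spec (CommRingCat.of k))) [GeometricallyIntegral A.hom] : IsIntegral A.left := by
  haveI : Subsingleton ↥(Spec (CommRingCat.of k)) := inferInstanceAs (Subsingleton (PrimeSpectrum k))
  exact GeometricallyIntegral.isIntegral_of_subsingleton A.hom

theorem quasiCompact_hom {A B : Over (Spec (CommRingCat.of k))} [IsProper A.hom] [IsSeparated B.hom] (f : A ⟶ B) :
    QuasiCompact f.left := by
  haveI : QuasiCompact (f.left ≫ B.hom) := by rw [Over.w f]; infer_instance
  exact QuasiCompact.of_comp f.left B.hom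

/-- A surjection onto a reduced scheme is right cancellable for maps into separated schemes. -/
theorem cancel_of_surjective {A B C : Over (Spec (CommRingCat.of k))} [GeometricallyIntegral B.hom]
    [IsSeparated C.hom] (p : A ⟶ B) [Surjective p.left] {f g : B ⟶ C} (h : p ≫ f = p ≫ g) : f = g := by
  haveI := isIntegral_left B
  haveI : IsDominant p.left := ⟨p.left.surjective.denseRange⟩
  exact Over.OverMorphism.ext (ext_of_isDominant_of_isSeparated C.hom ((Over.w f).trans (Over.w g).symm) p.left
    (congrArg CommaMorphism.left h))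

variable {A B C : Over (Spec (CommRingCat.of k))} [GrpObj A] [IsProper A.hom] [GeometricallyIntegral A.hom]
  [GrpObj B] [IsProper B.hom]

/-- A monomorphic homomorphism is a closed immersion. -/
theorem isClosedImmersion_of_mono (u : A ⟶ B) [IsMonHom u] [Mono u] : IsClosedImmersion u.left := by
  haveI := quasiCompact_hom u
  obtain ⟨M, hM, p, i, hp, hi, hpi, hf, hs, hq, -, hc, -⟩ := GrpHomLib.exists_factor u
  letI := hM
  haveI := hf; haveI := hs; haveI := hq; haveI := hc
  haveI : SchDesc.IsFpqc p.left := SchDesc.IsFpqc.of_quasiCompact p.left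
  haveI : Epi p := GrpQuotLib.epi_of_isFpqc p
  haveI : Mono p := by
    haveI : Mono (p ≫ i) := by rw [hpi]; infer_instance
    exact mono_of_mono p i
  obtain ⟨g, hg⟩ := GrpQuotLib.exists_desc p (𝟙 A) fun T a b e => by
    rw [(cancel_mono p).1 e]
  haveI : IsIso p := ⟨g, hg, (cancel_epi p).1 (by rw [← Category.assoc, hg, Category.id_comp, Category.comp_id])⟩
  haveI : IsIso p.left := (Over.forget _).map_isIso p
  rw [← hpi, Over.comp_left]
  infer_instance

/-- A homomorphism killing the kernel of a surjective homomorphism factors through it. -/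
theorem exists_desc_hom [GeometricallyIntegral B.hom] [GrpObj C] [IsProper C.hom] [IsCommMonObj C]
    (h : A ⟶ B) [IsMonHom h] [Surjective h.left] (f : A ⟶ C) [IsMonHom f]
    (hf : ∀ (T : Over (Spec (CommRingCat.of k))) (x : T ⟶ A), x ≫ h = 1 → x ≫ f = 1) :
    ∃ f' : B ⟶ C, IsMonHom f' ∧ h ≫ f' = f := by
  haveI := quasiCompact_hom h
  obtain ⟨M, hM, p, i, hp, hi, hpi, hfl, hs, hq, -, hc, -⟩ := GrpHomLib.exists_factor h
  letI := hM
  haveI := hp; haveI := hi; haveI := hfl; haveI := hs; haveI := hq; haveI := hc
  haveI : SchDesc.IsFpqc p.left := SchDesc.IsFpqc.of_quasiCompact p.left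
  haveI := isIntegral_left B
  haveI : Surjective i.left := by
    haveI : Surjective (p.left ≫ i.left) := by rw [← Over.comp_left, hpi]; infer_instance
    exact Surjective.of_comp p.left i.left
  haveI : IsIso i.left := isIso_of_isClosedImmersion_of_surjective _
  haveI : IsIso i := by
    haveI : IsIso ((Over.forget _).map i) := by rw [Over.forget_map]; infer_instance
    exact isIso_of_reflects_iso i (Over.forget _)
  obtain ⟨g, hg⟩ := GrpQuotLib.exists_desc p f fun T a b e => by
    have h1 : (a / b) ≫ h = 1 := by rw [← hpi, ← Category.assoc, GrpObj.div_comp, e, div_self', MonObj.one_comp]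
    have h2 := hf T _ h1
    rwa [GrpObj.div_comp, div_eq_one] at h2
  refine ⟨inv i ≫ g, ?_, by rw [← hpi, Category.assoc, IsIso.hom_inv_id_assoc, hg]⟩
  haveI : LocallyOfFinitePresentation B.hom := inferInstance
  haveI := GeomIrred.geometricallyConnected_of_geometricallyIrreducible B.hom
  refine RigidLib.isMonHom_of_one (inv i ≫ g) ?_
  have e : h ≫ inv i ≫ g = f := by rw [← hpi, Category.assoc, IsIso.hom_inv_id_assoc, hg]
  rw [← IsMonHom.one_hom h, Category.assoc, e, IsMonHom.one_hom f]

/-- The quotient of an abelian variety by a closed subgroup is an abelian variety. -/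
theorem exists_quotient_av [IsCommMonObj A] {H : Over (Spec (CommRingCat.of k))} [GrpObj H] (i : H ⟶ A)
    [IsMonHom i] [IsClosedImmersion i.left] :
    ∃ (Q : Over (Spec (CommRingCat.of k))) (_ : GrpObj Q) (q : A ⟶ Q), IsMonHom q ∧ IsProper Q.hom ∧
      GeometricallyIntegral Q.hom ∧ IsCommMonObj Q ∧ Surjective q.left ∧ i ≫ q = 1 ∧
      (∀ (T : Over (Spec (CommRingCat.of k))) (x : T ⟶ A), x ≫ q = 1 → ∃ y : T ⟶ H, y ≫ i = x) := by
  haveI := isIntegral_left A
  haveI : LocallyOfFiniteType A.hom := inferInstance
  have hN : AlgGrp.IsNormalHom i := fun T g n =>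
    ⟨n, by rw [mul_comm g, _root_.mul_assoc, mul_inv_cancel, _root_.mul_one]⟩
  obtain ⟨Q, hQ, q, hq, hQs, hQl, hQq, hqs, hqf, hqp, hker⟩ := GrpQuotLib.exists_quotientGrp_field H A i hN
  letI := hQ
  haveI := hq; haveI := hQs; haveI := hQl; haveI := hQq; haveI := hqs; haveI := hqf; haveI := hqp
  haveI : UniversallyClosed Q.hom := by
    haveI : UniversallyClosed (q.left ≫ Q.hom) := by rw [Over.w q]; infer_instance
    exact UniversallyClosed.of_comp_surjective q.left Q.hom
  haveI : IsProper Q.hom := {}
  haveI := quasiCompact_hom q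
  haveI : IsReduced Q.left := FlatDescStalk.isReduced_of_flat_surjective q.left
  haveI : IsSchemeTheoreticallyDominant q.left := IsSchemeTheoreticallyDominant.of_isDominant q.left
  haveI : GeometricallyIntegral Q.hom := AVLib.geometricallyIntegral_of_dominant Q.hom q.left (Over.w q)
  refine ⟨Q, hQ, q, hq, inferInstance, inferInstance, isCommMonObj_of_isProper_of_geometricallyIntegral Q, hqs,
    by rw [hker.w, Hom.one_def], fun T x hx => ⟨hker.lift x (toUnit T) (by rw [hx, Hom.one_def]), hker.lift_fst _ _ _⟩⟩

end Groth.Agent.CogenLib
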