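import Groth.Agent.CogenLib.Basic
import Groth.Agent.AVHomLib.Main

/-!
# Abelian varieties annihilated by a polynomial in Frobenius
-/

set_option autoImplicit false
set_option backward.isDefEq.respectTransparency false
set_option linter.style.haveILetI false
set_option linter.unusedSectionVars false

universe u

open CategoryTheory CategoryTheory.Limits MonoidalCategory CartesianMonoidalCategory MonObj AlgebraicGeometry

noncomputable section

namespace Groth.Agent.CogenLib

variable {k : Type u} [Field k] [Finite k]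

/-- `P` kills the Frobenius of `X`. -/
def AnnFrob (P : Polynomial ℤ) (X : Over (Spec (CommRingCat.of k))) [GrpObj X] [IsCommMonObj X] : Prop :=
  ∃ (π : X ⟶ X) (_ : IsMonHom π), IsQFrob (Nat.card k) π.left ∧
    Polynomial.eval₂ (Int.castRingHom (EndAV.End X)) (EndAV.End.of π) P = 0

variable {P : Polynomial ℤ} {X Y : Over (Spec (CommRingCat.of k))} [GrpObj X] [IsCommMonObj X] [GrpObj Y]
  [IsCommMonObj Y]

theorem AnnFrob.mk' (π : X ⟶ X) [IsMonHom π] (hb : π.left.base = 𝟙 _) (hle : ∀ U : X.left.Opens, U ≤ π.left ⁻¹ᵁ U)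
    (happ : ∀ (U : X.left.Opens) (s : Γ(X.left, U)), (π.left.appLE U U (hle U)).hom s = s ^ Nat.card k)
    (hP : Polynomial.eval₂ (Int.castRingHom (EndAV.End X)) (EndAV.End.of π) P = 0) : AnnFrob P X :=
  ⟨π, inferInstance, ⟨hb, hle, happ⟩, hP⟩

theorem AnnFrob.data (h : AnnFrob P X) :
    ∃ (π : X ⟶ X) (_ : IsMonHom π) (_ : π.left.base = 𝟙 _) (hle : ∀ U : X.left.Opens, U ≤ π.left ⁻¹ᵁ U)
      (_ : ∀ (U : X.left.Opens) (s : Γ(X.left, U)), (π.left.appLE U U (hle U)).hom s = s ^ Nat.card k),
      Polynomial.eval₂ (Int.castRingHom (EndAV.End X)) (EndAV.End.of π) P = 0 := by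
  obtain ⟨π, hπ, ⟨hb, hle, happ⟩, hP⟩ := h
  exact ⟨π, hπ, hb, hle, happ, hP⟩

/-- Polynomials in Frobenius commute with homomorphisms. -/
theorem eval₂_frob_comm {πX : X ⟶ X} [IsMonHom πX] {πY : Y ⟶ Y} [IsMonHom πY]
    (hX : IsQFrob (Nat.card k) πX.left) (hY : IsQFrob (Nat.card k) πY.left) (φ : EndAV.Hom X Y) :
    ((Polynomial.eval₂ (Int.castRingHom (EndAV.End X)) (EndAV.End.of πX) P : EndAV.End X) : EndAV.Hom X X) ≫ φ =
      φ ≫ ((Polynomial.eval₂ (Int.castRingHom (EndAV.End Y)) (EndAV.End.of πY) P : EndAV.End Y) : EndAV.Hom Y Y) :=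
  eval₂_comm (EndAV.End.of πX) (EndAV.End.of πY) φ
    (show EndAV.Hom.of πX ≫ φ = φ ≫ EndAV.Hom.of πY from EndAV.Hom.ext (comm_over hX hY φ.toHom)) P

/-- Descending along a family of homomorphisms detecting endomorphisms. -/
theorem AnnFrob.of_family {J : Type*} {Z : J → Over (Spec (CommRingCat.of k))} [∀ i, GrpObj (Z i)]
    [∀ i, IsCommMonObj (Z i)] (hZ : ∀ i, AnnFrob P (Z i)) (ψ : ∀ i, EndAV.Hom X (Z i))
    (h : ∀ u : EndAV.Hom X X, (∀ i, u ≫ ψ i = 0) → u = 0) : AnnFrob P X := by
  obtain ⟨π, hπ⟩ := exists_frobOver X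
  haveI := isMonHom_frob hπ
  refine ⟨π, inferInstance, hπ, h _ fun i => ?_⟩
  obtain ⟨π', hπm, hπ', hP'⟩ := hZ i
  haveI := hπm
  rw [eval₂_frob_comm hπ hπ' (ψ i), hP']
  exact comp_zero

/-- Ascending along a homomorphism detecting endomorphisms. -/
theorem AnnFrob.of_epi (hX : AnnFrob P X) (q : EndAV.Hom X Y)
    (h : ∀ u : EndAV.Hom Y Y, q ≫ u = 0 → u = 0) : AnnFrob P Y := by
  obtain ⟨π, hπ⟩ := exists_frobOver Y
  haveI := isMonHom_frob hπ
  obtain ⟨π', hπm, hπ', hP'⟩ := hX
  haveI := hπm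
  refine ⟨π, inferInstance, hπ, h _ ?_⟩
  rw [← eval₂_frob_comm hπ' hπ q, hP']
  exact zero_comp

theorem AnnFrob.of_surjective [IsProper Y.hom] [GeometricallyIntegral Y.hom] (hX : AnnFrob P X) (q : X ⟶ Y)
    [IsMonHom q] [Surjective q.left] : AnnFrob P Y := by
  refine hX.of_epi (EndAV.Hom.of q) fun u hu => EndAV.Hom.ext (cancel_of_surjective q ?_)
  have h := congrArg EndAV.Hom.toHom hu
  rw [EndAV.Hom.toHom_comp, EndAV.Hom.toHom_zero, EndAV.Hom.toHom_of] at h
  rw [h, EndAV.Hom.toHom_zero, MonObj.comp_one]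

theorem AnnFrob.of_mono (hY : AnnFrob P Y) (i : X ⟶ Y) [IsMonHom i] [Mono i] : AnnFrob P X := by
  refine AnnFrob.of_family (fun _ : Unit => hY) (fun _ => EndAV.Hom.of i) fun u hu => EndAV.Hom.ext ?_
  have h := congrArg EndAV.Hom.toHom (hu ())
  rw [EndAV.Hom.toHom_comp, EndAV.Hom.toHom_zero, EndAV.Hom.toHom_of] at h
  rw [← cancel_mono i, h, EndAV.Hom.toHom_zero, MonObj.one_comp]

/-- An abelian variety with its homomorphisms as a bundled power of `A`. -/
theorem exists_power (A : Over (Spec (CommRingCat.of k))) [GrpObj A] [IsCommMonObj A] [IsProper A.hom]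
    [GeometricallyIntegral A.hom] (n : ℕ) :
    ∃ (W : Over (Spec (CommRingCat.of k))) (_ : GrpObj W) (_ : IsCommMonObj W) (_ : IsProper W.hom)
      (_ : GeometricallyIntegral W.hom) (pr : Fin n → EndAV.Hom W A) (inj : Fin n → EndAV.Hom A W),
      (∀ i j, inj i ≫ pr j = if i = j then 𝟙 (CommGrp.mk A) else 0) ∧
      ∀ (T : Over (Spec (CommRingCat.of k))) (x y : T ⟶ W),
        (∀ i, x ≫ (pr i).toHom = y ≫ (pr i).toHom) → x = y := by
  induction n with
  | zero =>
    haveI : IsProper (𝟙_ (Over (Spec (CommRingCat.of k)))).hom :=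
      inferInstanceAs (IsProper (𝟙 (Spec (CommRingCat.of k))))
    haveI : GeometricallyIntegral (𝟙_ (Over (Spec (CommRingCat.of k)))).hom := by
      refine ⟨fun L _ y Z fst' snd' H => ?_⟩
      haveI : IsIso snd' := MorphismProperty.of_isPullback (P := MorphismProperty.isomorphisms Scheme) H
        (inferInstanceAs (IsIso (𝟙 _)))
      exact .of_isIso (inv snd')
    exact ⟨𝟙_ _, inferInstance, inferInstance, inferInstance, inferInstance, Fin.elim0, Fin.elim0,
      fun i => i.elim0, fun T x y _ => toUnit_unique x y⟩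
  | succ n ih =>
    obtain ⟨W, hW, hWc, hWp, hWg, pr, inj, hip, hjm⟩ := ih
    letI := hW
    haveI := hWc; haveI := hWp; haveI := hWg
    haveI : IsProper (A ⊗ W).hom := PoincareLib.isProper_tensor
    haveI : GeometricallyIntegral (A ⊗ W).hom := by
      rw [← Over.w (fst A W)]
      haveI : GeometricallyIntegral (fst A W).left :=
        MorphismProperty.pullback_fst (P := @GeometricallyIntegral) A.hom W.hom inferInstance
      haveI : Flat W.hom := inferInstance
      haveI : Flat (fst A W).left := MorphismProperty.pullback_fst (P := @Flat) A.hom W.hom inferInstance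
      haveI : UniversallyOpen W.hom := inferInstance
      haveI : UniversallyOpen (fst A W).left :=
        MorphismProperty.pullback_fst (P := @UniversallyOpen) A.hom W.hom inferInstance
      exact AVLib.geometricallyIntegral_comp (fst A W).left A.hom
    haveI : IsCommMonObj (A ⊗ W) := isCommMonObj_of_isProper_of_geometricallyIntegral _
    haveI : IsMonHom (lift (𝟙 A) (1 : A ⟶ W)) := by
      haveI : IsMonHom (1 : A ⟶ W) := inferInstanceAs (IsMonHom (0 : EndAV.Hom A W).toHom)
      infer_instance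
    haveI : IsMonHom (lift (1 : W ⟶ A) (𝟙 W)) := by
      haveI : IsMonHom (1 : W ⟶ A) := inferInstanceAs (IsMonHom (0 : EndAV.Hom W A).toHom)
      infer_instance
    let f : EndAV.Hom (A ⊗ W) A := EndAV.Hom.of (fst A W)
    let s : EndAV.Hom (A ⊗ W) W := EndAV.Hom.of (snd A W)
    let iA : EndAV.Hom A (A ⊗ W) := EndAV.Hom.of (lift (𝟙 A) 1)
    let iW : EndAV.Hom W (A ⊗ W) := EndAV.Hom.of (lift 1 (𝟙 W))
    have hAf : iA ≫ f = 𝟙 _ := EndAV.Hom.ext (lift_fst _ _)
    have hAs : iA ≫ s = 0 := EndAV.Hom.ext (lift_snd _ _)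
    have hWf : iW ≫ f = 0 := EndAV.Hom.ext (lift_fst _ _)
    have hWs : iW ≫ s = 𝟙 _ := EndAV.Hom.ext (lift_snd _ _)
    refine ⟨A ⊗ W, inferInstance, inferInstance, inferInstance, inferInstance, Fin.cases f (fun i => s ≫ pr i),
      Fin.cases iA (fun i => inj i ≫ iW), ?_, ?_⟩
    · intro i j
      induction i using Fin.cases with
      | zero =>
        induction j using Fin.cases with
        | zero => simp only [Fin.cases_zero, if_pos]; exact hAf
        | succ j =>
          simp only [Fin.cases_zero, Fin.cases_succ]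
          rw [← Category.assoc, hAs, zero_comp, if_neg (Fin.succ_ne_zero j).symm]
      | succ i =>
        induction j using Fin.cases with
        | zero =>
          simp only [Fin.cases_zero, Fin.cases_succ]
          rw [Category.assoc, hWf, comp_zero, if_neg (Fin.succ_ne_zero i)]
        | succ j =>
          simp only [Fin.cases_succ]
          rw [Category.assoc, ← Category.assoc iW, hWs, Category.id_comp, hip]
          simp only [Fin.succ_inj]
    · intro T x y h
      refine CartesianMonoidalCategory.hom_ext _ _ (h 0) (hjm T _ _ fun i => ?_)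
      have h' := h i.succ
      simp only [Fin.cases_succ, EndAV.Hom.toHom_comp] at h'
      rw [Category.assoc, Category.assoc]
      exact h'

end Groth.Agent.CogenLib
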