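import Groth.Agent.CogenLib.Basic

/-!
# Kernels as closed subgroups
-/

set_option autoImplicit false
set_option backward.isDefEq.respectTransparency false
set_option linter.style.haveILetI false
set_option linter.unusedSectionVars false

universe u

open CategoryTheory CategoryTheory.Limits MonoidalCategory CartesianMonoidalCategory MonObj AlgebraicGeometry

noncomputable section

namespace Groth.Agent.CogenLib

variable {k : Type u} [Field k] {A B : Over (Spec (CommRingCat.of k))} [GrpObj A] [GrpObj B] [IsProper B.hom]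

theorem exists_ker (f : A ⟶ B) [IsMonHom f] :
    ∃ (H : Over (Spec (CommRingCat.of k))) (_ : GrpObj H) (i : H ⟶ A), IsMonHom i ∧ IsClosedImmersion i.left ∧
      i ≫ f = 1 ∧ ∀ (T : Over (Spec (CommRingCat.of k))) (x : T ⟶ A), x ≫ f = 1 → ∃ y : T ⟶ H, y ≫ i = x := by
  obtain ⟨hG, hGhom⟩ := GrpQuotLib.exists_grpObj_kernel f
  letI := hG
  haveI : IsClosedImmersion η[B].left := GrpSchLib.isClosedImmersion_unit
  have hsq := GrpQuotLib.isPullback_left (IsPullback.of_hasPullback f η[B])
  refine ⟨pullback f η[B], hG, pullback.fst f η[B], hGhom,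
    MorphismProperty.of_isPullback hsq.flip ‹IsClosedImmersion η[B].left›, ?_, fun T x hx =>
    ⟨pullback.lift x (toUnit T) (by rw [hx, Hom.one_def]), pullback.lift_fst _ _ _⟩⟩
  rw [pullback.condition, Hom.one_def, toUnit_unique (pullback.snd f η[B]) (toUnit _)]

/-- The trivial subgroup is a finite closed subgroup. -/
theorem trivial_subgroup :
    IsFinite (𝟙_ (Over (Spec (CommRingCat.of k)))).hom ∧ IsClosedImmersion η[B].left :=
  ⟨inferInstanceAs (IsFinite (𝟙 (Spec (CommRingCat.of k)))), GrpSchLib.isClosedImmersion_unit⟩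

end Groth.Agent.CogenLib
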