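import Groth.Agent.CogenLib.Class

/-!
# Powers of an abelian variety with their homomorphisms
-/

set_option autoImplicit false
set_option backward.isDefEq.respectTransparency false
set_option linter.style.haveILetI false
set_option linter.unusedSectionVars false

universe u

open CategoryTheory CategoryTheory.Limits MonoidalCategory CartesianMonoidalCategory MonObj AlgebraicGeometry

noncomputable section

namespace Groth.Agent.CogenLib

variable {k : Type u} [Field k] [Finite k]

/-- A power `W` of `A`, with projections and injections. -/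
structure Pow (A : Over (Spec (CommRingCat.of k))) [GrpObj A] [IsCommMonObj A] (n : ℕ) where
  W : Over (Spec (CommRingCat.of k))
  [grp : GrpObj W]
  [comm : IsCommMonObj W]
  [proper : IsProper W.hom]
  [geom : GeometricallyIntegral W.hom]
  pr : Fin n → EndAV.Hom W A
  inj : Fin n → EndAV.Hom A W
  inj_pr : ∀ i j, inj i ≫ pr j = if i = j then 𝟙 (CommGrp.mk A) else 0
  mono : ∀ (T : Over (Spec (CommRingCat.of k))) (x y : T ⟶ W),
    (∀ i, x ≫ (pr i).toHom = y ≫ (pr i).toHom) → x = y

attribute [instance] Pow.grp Pow.comm Pow.proper Pow.geom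

theorem nonempty_pow (A : Over (Spec (CommRingCat.of k))) [GrpObj A] [IsCommMonObj A] [IsProper A.hom]
    [GeometricallyIntegral A.hom] (n : ℕ) : Nonempty (Pow A n) := by
  obtain ⟨W, hW, hWc, hWp, hWg, pr, inj, h1, h2⟩ := exists_power A n
  letI := hW
  haveI := hWc; haveI := hWp; haveI := hWg
  exact ⟨{ W := W, pr := pr, inj := inj, inj_pr := h1, mono := h2 }⟩

namespace Pow

variable {A : Over (Spec (CommRingCat.of k))} [GrpObj A] [IsCommMonObj A] {n : ℕ} (p : Pow A n)
  {X : Over (Spec (CommRingCat.of k))} [GrpObj X] [IsCommMonObj X]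

theorem hom_ext {f g : EndAV.Hom X p.W} (h : ∀ i, f ≫ p.pr i = g ≫ p.pr i) : f = g :=
  EndAV.Hom.ext (p.mono _ _ _ fun i => congrArg EndAV.Hom.toHom (h i))

/-- The homomorphism with given components. -/
def lift (ψ : Fin n → EndAV.Hom X A) : EndAV.Hom X p.W := ∑ i, ψ i ≫ p.inj i

theorem lift_pr (ψ : Fin n → EndAV.Hom X A) (j : Fin n) : p.lift ψ ≫ p.pr j = ψ j := by
  rw [lift, Preadditive.sum_comp, Finset.sum_eq_single j (fun i _ hi => by
    rw [Category.assoc, p.inj_pr, if_neg hi, comp_zero]) (fun h => (h (Finset.mem_univ j)).elim),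
    Category.assoc, p.inj_pr, if_pos rfl, Category.comp_id]

theorem sum_pr_inj : ∑ i, p.pr i ≫ p.inj i = 𝟙 (CommGrp.mk p.W) :=
  p.hom_ext fun j => by rw [Category.id_comp]; exact p.lift_pr p.pr j

theorem decomp (φ : EndAV.Hom p.W X) : φ = ∑ i, p.pr i ≫ p.inj i ≫ φ := by
  conv_lhs => rw [← Category.id_comp φ, ← p.sum_pr_inj, Preadditive.sum_comp]
  simp only [Category.assoc]

theorem mono_lift {Z : Over (Spec (CommRingCat.of k))} [GrpObj Z] [IsCommMonObj Z] (ψ : Fin n → EndAV.Hom Z A)
    (h : ∀ (T : Over (Spec (CommRingCat.of k))) (x y : T ⟶ Z),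
      (∀ i, x ≫ (ψ i).toHom = y ≫ (ψ i).toHom) → x = y) : Mono (p.lift ψ).toHom := by
  refine ⟨fun {T} x y e => h T x y fun i => ?_⟩
  rw [← p.lift_pr ψ i, EndAV.Hom.toHom_comp, ← Category.assoc, ← Category.assoc, e]

theorem annFrob {P : Polynomial ℤ} (hA : AnnFrob P A) : AnnFrob P p.W :=
  AnnFrob.of_family (fun _ : Fin n => hA) p.pr fun u hu => p.hom_ext fun i => by rw [hu, zero_comp]

end Pow

end Groth.Agent.CogenLib
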